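import Groth.Prelude.Def_FlatFun
import Groth.Agent.LimTop.ModDescend

/-!
# fpqc sheaf property of functors `T ↦ [condition on X ×_S T ⟶ X]`, and descent of properties of
module maps along jointly surjective flat families
-/

set_option autoImplicit false
set_option backward.isDefEq.respectTransparency false
set_option backward.isDefEq.respectTransparency.types false

universe u

open CategoryTheory Limits AlgebraicGeometry Opposite
open scoped TensorProduct

namespace Groth.Agent.FlatFunSheaf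

open Groth.Agent.PullStalk.Sky Groth.Agent.PullStalk.Exact Groth.Agent.LimTop Groth.Agent.QCoh

section descent

variable {Y : Scheme.{u}} {ι : Type*} {Z : ι → Scheme.{u}} (g : ∀ i, Z i ⟶ Y) [∀ i, Flat (g i)]
  (hsurj : ∀ y : Y, ∃ i, y ∈ Set.range (g i)) {M N : Y.Modules} (φ : M ⟶ N)

include hsurj

theorem eq_zero_of_pullback (h : ∀ i, (Scheme.Modules.pullback (g i)).map φ = 0) : φ = 0 := by
  refine hom_ext_stalk _ _ fun y => LinearMap.ext fun t => ?_
  obtain ⟨i, x, rfl⟩ := hsurj y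
  refine FDesc.Stalk.unitStalkHom_injective (g i) N x (Flat.stalkMap (g i) x) ?_
  refine (FDesc.Stalk.unitStalkHom_natural (g i) φ x t).trans ?_
  refine Eq.trans ?_ (FDesc.Stalk.unitStalkHom_natural (g i) (0 : M ⟶ N) x t).symm
  rw [h i, Functor.map_zero]

theorem mono_of_pullback (h : ∀ i, Mono ((Scheme.Modules.pullback (g i)).map φ)) : Mono φ := by
  refine ⟨fun {P} a b hab => sub_eq_zero.1 (eq_zero_of_pullback g hsurj (a - b) fun i => ?_)⟩
  have := h i
  rw [← cancel_mono ((Scheme.Modules.pullback (g i)).map φ), ← Functor.map_comp, Preadditive.sub_comp,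
    hab, sub_self, Functor.map_zero, zero_comp]

theorem epi_of_pullback (h : ∀ i, Epi ((Scheme.Modules.pullback (g i)).map φ)) : Epi φ := by
  refine ⟨fun {P} a b hab => sub_eq_zero.1 (eq_zero_of_pullback g hsurj (a - b) fun i => ?_)⟩
  have := h i
  rw [← cancel_epi ((Scheme.Modules.pullback (g i)).map φ), ← Functor.map_comp, Preadditive.comp_sub,
    hab, sub_self, Functor.map_zero, comp_zero]

theorem isIso_of_pullback (h : ∀ i, IsIso ((Scheme.Modules.pullback (g i)).map φ)) : IsIso φ := by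
  have := epi_of_pullback g hsurj φ fun i => inferInstance
  have := mono_of_pullback g hsurj φ fun i => inferInstance
  exact isIso_of_mono_of_epi φ

end descent

variable {X S : Scheme.{u}} (f : X ⟶ S)

/-- The base change to `X` of a morphism over `S`. -/
noncomputable def bcMap {T' T : Over S} (a : T' ⟶ T) : pullback f T'.hom ⟶ pullback f T.hom :=
  pullback.lift (pullback.fst _ _) (pullback.snd _ _ ≫ a.left)
    (by rw [Category.assoc, Over.w a, pullback.condition])

theorem bcMap_fst {T' T : Over S} (a : T' ⟶ T) :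
    bcMap f a ≫ pullback.fst f T.hom = pullback.fst f T'.hom :=
  pullback.lift_fst _ _ _

theorem isPullback_bcMap {T' T : Over S} (a : T' ⟶ T) :
    IsPullback (bcMap f a) (pullback.snd f T'.hom) (pullback.snd f T.hom) a.left := by
  refine IsPullback.of_right ?_ (pullback.lift_snd _ _ _) (IsPullback.of_hasPullback f T.hom)
  rw [bcMap_fst, Over.w a]
  exact IsPullback.of_hasPullback f T'.hom

/-- The base change of an fpqc family. -/
theorem flat_and_surjective_bcMap {T : Over S} {ι : Type*} (Ti : ι → Over S) (a : ∀ i, Ti i ⟶ T)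
    (hcov : Presieve.ofArrows (fun i => (Ti i).left) (fun i => (a i).left) ∈ Scheme.fpqcPrecoverage T.left) :
    (∀ i, Flat (bcMap f (a i))) ∧ ∀ y, ∃ i, y ∈ Set.range (bcMap f (a i)) := by
  obtain ⟨hs, hfl⟩ := (Scheme.ofArrows_mem_precoverage_iff _).1 (show _ ∈ Scheme.precoverage @Flat T.left from hcov.2)
  refine ⟨fun i => MorphismProperty.of_isPullback (isPullback_bcMap f (a i)).flip (hfl i), fun y => ?_⟩
  obtain ⟨i, v, hv⟩ := hs (pullback.snd f T.hom y)
  obtain ⟨z, h1, h2⟩ := Scheme.exists_preimage_of_isPullback (isPullback_bcMap f (a i)) y v hv.symm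
  exact ⟨i, z, h1⟩

/-- A base change stable condition that descends along jointly surjective flat families gives an fpqc
sheaf. -/
theorem isSheaf_genPSp (Φ : ∀ ⦃Y : Scheme.{u}⦄, (Y ⟶ X) → Prop)
    (hΦ : ∀ ⦃Z Y : Scheme.{u}⦄ (p : Z ⟶ Y) (g : Y ⟶ X), Φ g → Φ (p ≫ g))
    (hloc : ∀ ⦃Y : Scheme.{u}⦄ (q : Y ⟶ X) ⦃ι : Type (u + 1)⦄ (Z : ι → Scheme.{u}) (g : ∀ i, Z i ⟶ Y)
      [∀ i, Flat (g i)], (∀ y : Y, ∃ i, y ∈ Set.range (g i)) → (∀ i, Φ (g i ≫ q)) → Φ q) :
    Presheaf.IsSheaf (QuotSh.J Scheme.fpqcPrecoverage S)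
      (FlatFun.genPSp S (fun T => Φ (pullback.fst f T.hom))) := by
  rw [isSheaf_iff_isSheaf_of_type]
  intro T R hR x hx
  refine ⟨ULift.up (PLift.up ?t), fun Y k hk => @Subsingleton.elim _ (FlatFun.genPSp_subsingleton _ _ _) _ _,
    fun y _ => @Subsingleton.elim _ (FlatFun.genPSp_subsingleton _ _ _) _ _⟩
  rw [GrothendieckTopology.mem_over_iff] at hR
  obtain ⟨R₀, hR₀, hle⟩ := Precoverage.mem_toGrothendieck_iff_of_isStableUnderComposition.1 hR
  obtain ⟨ι, V, v, rfl⟩ := R₀.exists_eq_ofArrows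
  let Ti : ι → Over S := fun i => Over.mk (v i ≫ T.hom)
  let a : ∀ i, Ti i ⟶ T := fun i => Over.homMk (v i) rfl
  have hmem : ∀ i, R (a i) := fun i => by
    have := hle _ (v i) ⟨i⟩
    rwa [Sieve.overEquiv_iff] at this
  obtain ⟨hfl, hs⟩ := flat_and_surjective_bcMap f Ti a hR₀
  refine ⟨T, 𝟙 _, ?_⟩
  refine hloc _ _ (fun i => bcMap f (a i)) hs fun i => ?_
  rw [bcMap_fst]
  obtain ⟨T₀, k, hk⟩ := (x (a i) (hmem i)).down.down
  have := hΦ (bcMap f k) _ hk
  rwa [bcMap_fst] at this

end Groth.Agent.FlatFunSheaf
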