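import Groth.Agent.FlatFunSheaf.Basic

/-!
# fpqc sheaf property of `genPSp` for conditions on the test scheme
-/

set_option autoImplicit false

universe u

open CategoryTheory Limits AlgebraicGeometry Opposite

namespace Groth.Agent.FlatFunSheaf

/-- A condition on schemes over `S` stable under morphisms which descends along jointly surjective flat
families gives an fpqc sheaf. -/
theorem isSheaf_genPSp_of (S : Scheme.{u}) (P : Over S → Prop)
    (hP : ∀ ⦃T T₀ : Over S⦄ (_ : T ⟶ T₀), P T₀ → P T)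
    (hloc : ∀ (T : Over S) ⦃ι : Type (u + 1)⦄ (Ti : ι → Over S) (a : ∀ i, Ti i ⟶ T)
      [∀ i, Flat (a i).left], (∀ t : T.left, ∃ i, t ∈ Set.range (a i).left) → (∀ i, P (Ti i)) → P T) :
    Presheaf.IsSheaf (QuotSh.J Scheme.fpqcPrecoverage S) (FlatFun.genPSp S P) := by
  rw [isSheaf_iff_isSheaf_of_type]
  intro T R hR x hx
  refine ⟨ULift.up (PLift.up ?t), fun Y k hk => @Subsingleton.elim _ (FlatFun.genPSp_subsingleton _ _ _) _ _,
    fun y _ => @Subsingleton.elim _ (FlatFun.genPSp_subsingleton _ _ _) _ _⟩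
  rw [GrothendieckTopology.mem_over_iff] at hR
  obtain ⟨R₀, hR₀, hle⟩ := Precoverage.mem_toGrothendieck_iff_of_isStableUnderComposition.1 hR
  obtain ⟨ι, V, v, rfl⟩ := R₀.exists_eq_ofArrows
  let Ti : ι → Over S := fun i => Over.mk (v i ≫ T.hom)
  let a : ∀ i, Ti i ⟶ T := fun i => Over.homMk (v i) rfl
  have hmem : ∀ i, R (a i) := fun i => by
    have := hle _ (v i) ⟨i⟩
    rwa [Sieve.overEquiv_iff] at this
  obtain ⟨hs, hfl⟩ := (Scheme.ofArrows_mem_precoverage_iff _).1
    (show _ ∈ Scheme.precoverage @Flat T.left from hR₀.2)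
  haveI : ∀ i, Flat (a i).left := fun i => hfl i
  exact ⟨T, 𝟙 _, hloc T Ti a (fun t => hs t) fun i =>
    (x (a i) (hmem i)).down.down.elim fun T₀ h => h.elim fun k hk => hP k hk⟩

end Groth.Agent.FlatFunSheaf
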