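import Groth.Agent.S4900
import Groth.Agent.S4863
import Groth.Agent.S4849
import Groth.Agent.ConsPairLib.ModLoci
import Groth.Agent.LimTop.BaseChange
import Groth.Agent.FlatMisc.FibreDimScheme
import Groth.Agent.AlgSpD.RelDim
import Groth.Agent.TrdegBC.Basic
import Groth.Prelude.Def_FlatFun

/-!
# Flatness in dimensions `≥ n` descends to a stage of an affine limit
-/

set_option autoImplicit false
set_option linter.style.haveILetI false
set_option backward.isDefEq.respectTransparency false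
set_option backward.isDefEq.respectTransparency.types false

universe u

open CategoryTheory Limits AlgebraicGeometry TopologicalSpace Topology

namespace Groth.Agent.FlatFunSheaf.DimLP

/-- The points of `T ×_{T₀} W` at which the pulled back module is not flat over `T`. -/
def NF {T T₀ W : Scheme.{u}} (h : W ⟶ T₀) (G : W.Modules) (a : T ⟶ T₀) : Set ↥(pullback a h) :=
  {z | ¬ FlatMod.IsFlatOverAt (pullback.fst a h) ((Scheme.Modules.pullback (pullback.snd a h)).obj G) z}

theorem isClosed_NF {T T₀ W : Scheme.{u}} (h : W ⟶ T₀) [LocallyOfFinitePresentation h] (G : W.Modules)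
    [Coh.IsQCoh G] (hG : CohB1.IsFP G) (a : T ⟶ T₀) : IsClosed (NF h G a) := by
  obtain ⟨h1, h2⟩ := ConsPairLib.isFP_pullback (pullback.snd a h) G hG
  haveI := h1
  haveI : LocallyOfFinitePresentation (pullback.fst a h) := inferInstance
  exact (S4863.result (pullback.fst a h) _ h2).isClosed_compl

/-- Nonflat points map to nonflat points. -/
theorem NF_mapsTo {T' T T₀ W : Scheme.{u}} (h : W ⟶ T₀) (G : W.Modules) (a' : T' ⟶ T₀) (a : T ⟶ T₀)
    (t : T' ⟶ T) (ht : t ≫ a = a') (m : pullback a' h ⟶ pullback a h)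
    (hm₁ : m ≫ pullback.fst a h = pullback.fst a' h ≫ t) (hm₂ : m ≫ pullback.snd a h = pullback.snd a' h) :
    Set.MapsTo m (NF h G a') (NF h G a) := fun z hz hfl =>
  hz (S4849.bc (IsPullback.of_hasPullback a h).flip (IsPullback.of_hasPullback a' h).flip t ht m hm₂ hm₁ z hfl)

/-- Some generization in the fibre has transcendence degree the fibre dimension. -/
theorem exists_gen_trdeg {U V : Scheme.{u}} (f : U ⟶ V) [LocallyOfFiniteType f] (u : U) (n : ℕ)
    (h : (n : WithBot ℕ∞) ≤ FlatMor.fibreDimAt f u) :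
    ∃ v, f v = f u ∧ (n : Cardinal.{u}) ≤ Dual3.resTrdeg f v := by
  obtain ⟨c, m, -, hh, hc, hd⟩ := AlgSpD.exists_fibre_dims f u
  rw [ringKrullDim_stalk_eq_coheight] at hc
  replace hc : Order.coheight (f.asFiber u) = c := WithBot.coe_inj.mp hc
  obtain ⟨p, hp, hl⟩ := Order.exists_series_of_coheight_eq_coe _ hc
  have key : ∀ i : Fin (p.length + 1), ((m + i.1 : ℕ) : ℕ∞) ≤ Order.height (p i) := by
    intro i
    induction i using Fin.induction with
    | zero => rw [show p 0 = f.asFiber u from hp, hh]; simp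
    | succ i ih =>
      refine le_trans ?_ (Order.height_add_one_le (p.step i))
      calc ((m + i.succ.1 : ℕ) : ℕ∞) = ((m + i.1 : ℕ) : ℕ∞) + 1 := by simp [add_assoc]
        _ ≤ _ := by gcongr; exact ih
  let w := p.last
  have hw : f (f.fiberι (f u) w) = f u := by
    have : f.fiberι (f u) w ∈ Set.range (f.fiberι (f u)) := ⟨w, rfl⟩
    rwa [f.range_fiberι] at this
  refine ⟨f.fiberι (f u) w, hw, ?_⟩
  obtain ⟨-, m', hm', hh', -, -⟩ := AlgSpD.exists_fibre_dims f (f.fiberι (f u) w)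
  have hheight : Order.height (f.asFiber (f.fiberι (f u) w)) = Order.height w := by
    have key2 : ∀ (y : V) (e : f (f.fiberι (f u) w) = y) (w' : f.fiber y),
        f.fiberι y w' = f.fiberι (f u) w → Order.height (f.asFiber (f.fiberι (f u) w)) = Order.height w' := by
      rintro y rfl w' hw'
      congr 1
      exact (f.fiberι _).isEmbedding.injective ((f.fiberι_asFiber _).trans hw'.symm)
    exact key2 _ hw w rfl
  rw [hm']
  rw [hh'] at hheight
  have h1 : ((m + p.length : ℕ) : ℕ∞) ≤ Order.height w := key (Fin.last _)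
  rw [← hheight, hl] at h1
  have h2 : (n : WithBot ℕ∞) ≤ ((c + m : ℕ) : WithBot ℕ∞) := h.trans hd.le
  have h1' : m + c ≤ m' := by exact_mod_cast h1
  have h2' : n ≤ c + m := by exact_mod_cast h2
  exact_mod_cast (by omega : n ≤ m')

/-- A closed set containing the points of trdeg `≥ n` of `Z`, all of whose points have such a point of
`Z` in their fibre. -/
theorem exists_isClosed_trdeg {U V : Scheme.{u}} (f : U ⟶ V) [LocallyOfFiniteType f] {Z : Set U}
    (hZ : IsClosed Z) (n : ℕ) :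
    ∃ E : Set U, IsClosed E ∧ (∀ z ∈ Z, (n : Cardinal.{u}) ≤ Dual3.resTrdeg f z → z ∈ E) ∧
      ∀ e ∈ E, ∃ z ∈ Z, f z = f e ∧ (n : Cardinal.{u}) ≤ Dual3.resTrdeg f z := by
  rcases Nat.eq_zero_or_pos n with rfl | hn
  · exact ⟨Z, hZ, fun z hz _ => hz, fun e he => ⟨e, he, rfl, by simp⟩⟩
  let I := Scheme.IdealSheafData.vanishingIdeal (X := U) ⟨Z, hZ⟩
  let i := I.subschemeι
  have hrange : Set.range i = Z := by
    rw [I.range_subschemeι, Scheme.IdealSheafData.coe_support_vanishingIdeal]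
    rfl
  have htr : ∀ z, Dual3.resTrdeg (i ≫ f) z = Dual3.resTrdeg f (i z) := fun z => by
    rw [AlgSpD.resTrdeg_comp, AlgSpD.resTrdeg_eq_zero_of_lqf i, zero_add]
  let E' : Set I.subscheme := {z | FlatMor.fibreDimAt (i ≫ f) z ≤ ((n - 1 : ℕ) : WithBot ℕ∞)}ᶜ
  have hE' : IsClosed E' := (FlatMisc.FibreDimScheme.isOpen_fibreDimAt_le (i ≫ f) (n - 1)).isClosed_compl
  refine ⟨i '' E', i.isClosedEmbedding.isClosedMap _ hE', fun z hz hle => ?_, ?_⟩
  · obtain ⟨z, rfl⟩ : z ∈ Set.range i := hrange.symm ▸ hz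
    refine ⟨z, fun hd => ?_, rfl⟩
    obtain ⟨c, m, hm, -, -, hd'⟩ := AlgSpD.exists_fibre_dims (i ≫ f) z
    rw [← htr, hm] at hle
    rw [Set.mem_ofPred_eq, hd'] at hd
    have h1 : n ≤ m := by exact_mod_cast hle
    have h2 : c + m ≤ n - 1 := by exact_mod_cast hd
    omega
  · rintro _ ⟨e, he, rfl⟩
    obtain ⟨c, m, -, -, -, hd'⟩ := AlgSpD.exists_fibre_dims (i ≫ f) e
    obtain ⟨v, hv, hle⟩ := exists_gen_trdeg (i ≫ f) e n (by
      rw [hd']
      have h2 : ¬ c + m ≤ n - 1 := fun hcm => he (show FlatMor.fibreDimAt (i ≫ f) e ≤ ((n - 1 : ℕ) : WithBot ℕ∞) by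
        rw [hd']; exact_mod_cast hcm)
      exact_mod_cast (by omega : n ≤ c + m))
    exact ⟨i v, hrange ▸ ⟨v, rfl⟩, by simpa using hv, htr v ▸ hle⟩

variable {I : Type u} [SmallCategory I] [IsCofiltered I]
  (D : I ⥤ Scheme.{u}) (c : Cone D) [∀ i, IsAffine (D.obj i)] {i₀ : I} {W : Scheme.{u}} [IsAffine W]
  (h : W ⟶ D.obj i₀) [LocallyOfFinitePresentation h] (G : W.Modules) [Coh.IsQCoh G]

set_option maxHeartbeats 1000000 in
theorem exists_stage (hc : IsLimit c) (hG : CohB1.IsFP G) (n : ℕ)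
    (hn : FlatFun.DimFibresLT n (pullback.fst (c.π.app i₀) h) (NF h G (c.π.app i₀))) :
    ∃ j : Over i₀, FlatFun.DimFibresLT n (pullback.fst (D.map j.hom) h) (NF h G (D.map j.hom)) := by
  by_contra hcon
  push Not at hcon
  haveI : ∀ (i j : I) (φ : i ⟶ j), IsAffineHom (D.map φ) := fun _ _ _ => isAffineHom_of_isAffine _
  let π : ∀ j : Over i₀, pullback (c.π.app i₀) h ⟶ pullback (D.map j.hom) h :=
    fun j => (LimTop.bcCone c i₀ h).π.app j
  have hπ₁ : ∀ j, π j ≫ pullback.fst (D.map j.hom) h = pullback.fst (c.π.app i₀) h ≫ c.π.app j.left :=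
    fun j => LimTop.bcCone_fst c i₀ h j
  have hπ₂ : ∀ j, π j ≫ pullback.snd (D.map j.hom) h = pullback.snd (c.π.app i₀) h :=
    fun j => LimTop.bcCone_snd c i₀ h j
  let τ : ∀ {k j : Over i₀}, (k ⟶ j) → (pullback (D.map k.hom) h ⟶ pullback (D.map j.hom) h) :=
    fun b => (LimTop.bcDiagram D i₀ h).map b
  have hτ₁ : ∀ {k j : Over i₀} (b : k ⟶ j), τ b ≫ pullback.fst (D.map j.hom) h =
      pullback.fst (D.map k.hom) h ≫ D.map b.left := fun b => pullback.lift_fst _ _ _
  have hτ₂ : ∀ {k j : Over i₀} (b : k ⟶ j), τ b ≫ pullback.snd (D.map j.hom) h =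
      pullback.snd (D.map k.hom) h := fun b => pullback.lift_snd _ _ _
  have hDw : ∀ {k j : Over i₀} (b : k ⟶ j), D.map b.left ≫ D.map j.hom = D.map k.hom := fun b => by
    rw [← D.map_comp, Over.w b]
  have hτZ : ∀ {k j : Over i₀} (b : k ⟶ j),
      Set.MapsTo (τ b) (NF h G (D.map k.hom)) (NF h G (D.map j.hom)) := fun b =>
    NF_mapsTo h G _ _ _ (hDw b) _ (hτ₁ b) (hτ₂ b)
  have hπZ : ∀ j : Over i₀, Set.MapsTo (π j) (NF h G (c.π.app i₀)) (NF h G (D.map j.hom)) := fun j =>
    NF_mapsTo h G _ _ _ (c.w j.hom) _ (hπ₁ j) (hπ₂ j)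
  have hτπ : ∀ {k j : Over i₀} (b : k ⟶ j), π k ≫ τ b = π j := fun b => (LimTop.bcCone c i₀ h).w b
  have hτbd : ∀ {k j : Over i₀} (b : k ⟶ j) (z : ↥(pullback (D.map k.hom) h)),
      Dual3.resTrdeg (pullback.fst (D.map k.hom) h) z ≤
        Dual3.resTrdeg (pullback.fst (D.map j.hom) h) (τ b z) := fun {k j} b z => by
    have sq : IsPullback (τ b) (pullback.fst (D.map k.hom) h) (pullback.fst (D.map j.hom) h)
        (D.map b.left) :=
      IsPullback.of_right (by rw [hτ₂ b, hDw b]; exact (IsPullback.of_hasPullback _ h).flip) (hτ₁ b)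
        (IsPullback.of_hasPullback (D.map j.hom) h).flip
    rw [← sq.isoPullback_hom_snd, AlgSpD.resTrdeg_comp,
      AlgSpD.resTrdeg_eq_zero_of_lqf sq.isoPullback.hom, zero_add]
    refine le_trans (TrdegBC.resTrdeg_snd_le _) (le_of_eq ?_)
    rw [← Scheme.Hom.comp_apply, sq.isoPullback_hom_fst]
  choose E hEc hEs hE using fun j : Over i₀ =>
    exists_isClosed_trdeg (pullback.fst (D.map j.hom) h) (isClosed_NF h G hG (D.map j.hom)) n
  let K : ∀ j : Over i₀, Set ↥(pullback (D.map j.hom) h) := fun j =>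
    closure {z | z ∈ NF h G (D.map j.hom) ∧
      (n : Cardinal.{u}) ≤ Dual3.resTrdeg (pullback.fst (D.map j.hom) h) z}
  have hKE : ∀ j, K j ⊆ E j := fun j => closure_minimal (fun z hz => hEs j z hz.1 hz.2) (hEc j)
  obtain ⟨x, hx⟩ := exists_mem_of_isClosed_of_nonempty (LimTop.bcDiagram D i₀ h) (LimTop.bcCone c i₀ h)
    (LimTop.isLimitBcCone hc i₀ h) K (fun j => isClosed_closure)
    (fun j => by
      obtain ⟨z, hz, hz'⟩ : ∃ z ∈ NF h G (D.map j.hom),
          ¬ Dual3.resTrdeg (pullback.fst (D.map j.hom) h) z < (n : Cardinal.{u}) := by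
        have h1 := hcon j
        unfold FlatFun.DimFibresLT at h1
        push Not at h1
        obtain ⟨z, hz, hz'⟩ := h1
        exact ⟨z, hz, not_lt.2 hz'⟩
      exact ⟨z, subset_closure ⟨hz, not_lt.1 hz'⟩⟩)
    (fun j => by
      haveI : CompactSpace ↥(pullback (D.map j.hom) h) := inferInstance
      exact @IsClosed.isCompact ↥(pullback (D.map j.hom) h) _ _ _ isClosed_closure)
    (fun {k j} b => Set.MapsTo.closure (fun z hz => ⟨hτZ b hz.1, hz.2.trans (hτbd b z)⟩)
      (τ b).continuous)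
  -- the fibre through `x`
  let p := pullback.fst (c.π.app i₀) h
  haveI : QuasiCompact p := MorphismProperty.pullback_fst _ _ inferInstance
  haveI : LocallyOfFiniteType p := MorphismProperty.pullback_fst _ _ inferInstance
  let t := p x
  haveI : IsLocallyNoetherian (p.fiber t) :=
    LocallyOfFiniteType.isLocallyNoetherian (p.fiberToSpecResidueField t)
  haveI : CompactSpace (p.fiber t) :=
    QuasiCompact.compactSpace_of_compactSpace (p.fiberToSpecResidueField t)
  haveI : IsNoetherian (p.fiber t) := {}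
  haveI : NoetherianSpace (p.fiber t) := inferInstance
  let A : Over i₀ → Closeds (p.fiber t) := fun j =>
    ⟨p.fiberι t ⁻¹' (π j ⁻¹' NF h G (D.map j.hom)),
      ((isClosed_NF h G hG _).preimage (π j).continuous).preimage (p.fiberι t).continuous⟩
  obtain ⟨_, ⟨j, rfl⟩, hmin⟩ := (inferInstance : WellFoundedLT (Closeds (p.fiber t))).wf.has_min
    (Set.range A) ⟨A (Over.mk (𝟙 i₀)), ⟨_, rfl⟩⟩
  obtain ⟨z, hz, hzt, hzn⟩ := hE j _ (hKE j (hx j))
  have hzt' : pullback.fst (D.map j.hom) h z = c.π.app j.left t := by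
    refine hzt.trans ?_
    exact congrArg (fun m => m.base x) (hπ₁ j)
  have sq : IsPullback (π j) (pullback.fst (c.π.app i₀) h) (pullback.fst (D.map j.hom) h)
      (c.π.app j.left) :=
    IsPullback.of_right (by rw [hπ₂ j, c.w j.hom]; exact (IsPullback.of_hasPullback _ h).flip) (hπ₁ j)
      (IsPullback.of_hasPullback (D.map j.hom) h).flip
  obtain ⟨w, hw₁, hw₂, hwn⟩ := TrdegBC.exists_resTrdeg_le_snd (f := pullback.fst (D.map j.hom) h)
    (g := c.π.app j.left) z t hzt'
  obtain ⟨y, rfl⟩ : ∃ y, sq.isoPullback.hom y = w :=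
    ⟨sq.isoPullback.inv w, by rw [← Scheme.Hom.comp_apply, sq.isoPullback.inv_hom_id]; rfl⟩
  have hy₁ : π j y = z := by rw [← hw₁, ← Scheme.Hom.comp_apply, sq.isoPullback_hom_fst]
  have hy₂ : p y = t := by
    rw [← hw₂, ← Scheme.Hom.comp_apply, sq.isoPullback_hom_snd]
    rfl
  have hyn : (n : Cardinal.{u}) ≤ Dual3.resTrdeg p y := by
    refine le_of_le_of_eq (hzn.trans hwn) ?_
    show _ = Dual3.resTrdeg (pullback.fst (c.π.app i₀) h) y
    conv_rhs => rw [← sq.isoPullback_hom_snd]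
    rw [AlgSpD.resTrdeg_comp, AlgSpD.resTrdeg_eq_zero_of_lqf sq.isoPullback.hom, zero_add]
  -- `y` is a point of non-flatness
  refine absurd (hn y ?_) (not_lt.2 hyn)
  intro hfl
  obtain ⟨i, φ, Xi, Yi, fi, gi, pY, pX, vY, vX, hYi, hXi, hv₁, hv₂, hv₃, hv₄, hflat⟩ :=
    (S4900.result D c hc i₀ (X₀ := W) (Y₀ := D.obj i₀) h (𝟙 _) G hG
      (pullback.fst (c.π.app i₀) h) (𝟙 c.pt) (c.π.app i₀) (pullback.snd (c.π.app i₀) h)
      IsPullback.of_id_snd (IsPullback.of_hasPullback _ _).flip y).1 hfl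
  obtain ⟨l, a, b, hab⟩ := IsCofiltered.cospan φ j.hom
  let k : Over i₀ := Over.mk (a ≫ φ)
  let b' : k ⟶ j := Over.homMk b hab.symm
  let vk : D.obj l ⟶ Yi := hYi.lift (D.map (a ≫ φ)) (D.map a) (by rw [Category.comp_id, D.map_comp])
  let ek : pullback (D.map (a ≫ φ)) h ⟶ Xi := hXi.lift (pullback.snd _ h) (pullback.fst _ h ≫ vk)
    (by rw [Category.assoc, hYi.lift_fst]; exact pullback.condition.symm)
  have hek : π k ≫ ek = vX := by
    apply hXi.hom_ext
    · rw [Category.assoc, hXi.lift_fst, hv₃]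
      exact hπ₂ k
    · rw [Category.assoc, hXi.lift_snd, ← Category.assoc]
      refine (congrArg (· ≫ vk) (hπ₁ k)).trans ?_
      rw [Category.assoc, hv₄]
      congr 1
      apply hYi.hom_ext
      · rw [Category.assoc, hYi.lift_fst, hv₁]
        exact c.w _
      · rw [Category.assoc, hYi.lift_snd, hv₂]
        exact (c.w a).trans (Category.id_comp _).symm
  have hk : π k y ∉ NF h G (D.map k.hom) := fun hkn =>
    hkn (S4849.bc hXi (IsPullback.of_hasPullback (D.map (a ≫ φ)) h).flip vk (hYi.lift_fst _ _ _) ek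
      (hXi.lift_fst _ _ _) (hXi.lift_snd _ _ _) _ (by rw [← hek] at hflat; exact hflat))
  -- minimality
  obtain ⟨y', rfl⟩ : y ∈ Set.range (p.fiberι t) := by rw [p.range_fiberι]; exact hy₂
  have hle : A k ≤ A j := fun q hq => by
    have := hτZ b' hq
    rwa [← Scheme.Hom.comp_apply, hτπ b'] at this
  have heq : A k = A j := eq_of_le_of_not_lt hle (hmin _ ⟨k, rfl⟩)
  have : y' ∈ (A j : Set (p.fiber t)) := show π j _ ∈ _ by rw [hy₁]; exact hz
  rw [← heq] at this
  exact hk this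

end Groth.Agent.FlatFunSheaf.DimLP
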